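import Groth.Agent.Lib.SheafCoh.Top
import Mathlib.Topology.Separation.Profinite
import Mathlib.Topology.Sheaves.SheafCondition.UniqueGluing
import Mathlib.Order.Disjointed

/-! # Acyclicity on irreducible and profinite spaces -/

set_option autoImplicit false

universe u

open CategoryTheory CategoryTheory.Limits Opposite TopologicalSpace

namespace GrothLib.Acyc25

open GrothLib

variable {X : TopCat.{u}}

theorem subsingleton_of_le_bot (F : CohTop.Ab X) {V : Opens X} (hV : V = ⊥) :
    Subsingleton (F.obj.obj (op V)) := by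
  subst hV
  refine ⟨fun s t => TopCat.Sheaf.eq_of_locally_eq' (F := F) (fun i : PEmpty.{1} => i.elim) (⊥ : Opens X)
    (fun i => i.elim) bot_le s t (fun i => i.elim)⟩

theorem surjective_toSheafify_const [IrreducibleSpace X] (A : AddCommGrpCat.{u}) (V : Opens X) :
    Function.Surjective
      ((toSheafify (Opens.grothendieckTopology X) ((Functor.const (Opens X)ᵒᵖ).obj A)).app (op V)) := by
  intro s
  let J := Opens.grothendieckTopology X
  let P : (Opens X)ᵒᵖ ⥤ AddCommGrpCat.{u} := (Functor.const (Opens X)ᵒᵖ).obj A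
  let η := toSheafify J P
  let F : CohTop.Ab X := (presheafToSheaf J AddCommGrpCat.{u}).obj P
  by_cases hne : (V : Set X).Nonempty
  swap
  · have hbot : V = ⊥ := SetLike.coe_injective (Set.not_nonempty_iff_eq_empty.1 hne)
    have := subsingleton_of_le_bot F hbot
    exact ⟨0, @Subsingleton.elim _ this _ _⟩
  have h := Presheaf.imageSieve_mem J η s
  have hinj : ∀ (W : Opens X), (W : Set X).Nonempty → ∀ a b : A, η.app (op W) a = η.app (op W) b → a = b := by
    intro W hW a b hab
    obtain ⟨x, hx⟩ := hW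
    obtain ⟨W', f, hf, -⟩ := Presheaf.equalizerSieve_mem J η a b hab x hx
    exact hf
  choose W iW ha hxW using h
  choose a ha' using ha
  obtain ⟨x₀, hx₀⟩ := hne
  refine ⟨a x₀ hx₀, TopCat.Sheaf.eq_of_locally_eq' (F := F) (fun x : V => W x.1 x.2) V (fun x => iW x.1 x.2)
    (fun x hx => Opens.mem_iSup.2 ⟨⟨x, hx⟩, hxW x hx⟩) _ _ fun x => ?_⟩
  have e1 : a x₀ hx₀ = a x.1 x.2 := by
    have hne2 : ((W x₀ hx₀ ⊓ W x.1 x.2 : Opens X) : Set X).Nonempty :=
      nonempty_preirreducible_inter (W x₀ hx₀).2 (W x.1 x.2).2 ⟨x₀, hxW _ _⟩ ⟨x.1, hxW _ _⟩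
    refine hinj _ hne2 _ _ ?_
    have h1 := ConcreteCategory.congr_hom (η.naturality (homOfLE (inf_le_left : W x₀ hx₀ ⊓ W x.1 x.2 ≤ _)).op) (a x₀ hx₀)
    have h2 := ConcreteCategory.congr_hom (η.naturality (homOfLE (inf_le_right : W x₀ hx₀ ⊓ W x.1 x.2 ≤ _)).op) (a x.1 x.2)
    refine h1.trans (Eq.trans ?_ h2.symm)
    change F.obj.map _ (η.app _ _) = F.obj.map _ (η.app _ _)
    rw [ha' x₀ hx₀, ha' x.1 x.2, ← ConcreteCategory.comp_apply, ← ConcreteCategory.comp_apply, ← F.obj.map_comp,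
      ← F.obj.map_comp]
    rfl
  refine (ConcreteCategory.congr_hom (η.naturality (iW x.1 x.2).op) (a x₀ hx₀)).symm.trans ?_
  exact (congrArg (η.app (op (W x.1 x.2))) e1).trans (ha' x.1 x.2)

theorem isFlasque_const [IrreducibleSpace X] (A : Type u) [AddCommGroup A] :
    TopCat.Sheaf.IsFlasque (CohTop.const X A) := by
  refine ⟨fun {U V} i => (AddCommGrpCat.epi_iff_surjective _).2 fun y => ?_⟩
  obtain ⟨a, ha⟩ := surjective_toSheafify_const (AddCommGrpCat.of A) V.unop y
  exact ⟨(toSheafify (Opens.grothendieckTopology X) ((Functor.const (Opens X)ᵒᵖ).obj (AddCommGrpCat.of A))).app U a,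
    (ConcreteCategory.congr_hom ((toSheafify (Opens.grothendieckTopology X) ((Functor.const (Opens X)ᵒᵖ).obj (AddCommGrpCat.of A))).naturality i) a).symm.trans ha⟩

theorem surjective_top_of_profinite [CompactSpace X] [T2Space X] [TotallyDisconnectedSpace X]
    {F G : CohTop.Ab X} (g : F ⟶ G) [Epi g] : Function.Surjective (g.hom.app (op ⊤)) := by
  classical
  intro s
  have h : ∀ x : X, ∃ C : Opens X, IsClopen (C : Set X) ∧ x ∈ C ∧
      ∃ t, g.hom.app (op C) t = G.obj.map (homOfLE le_top : C ⟶ ⊤).op s := fun x => by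
    obtain ⟨V, f, ⟨t, ht⟩, hxV⟩ := SheafCoh.imageSieve_mem_of_epi g s x (Set.mem_univ x)
    obtain ⟨C, hC, hxC, hCV⟩ := compact_exists_isClopen_in_isOpen V.2 hxV
    refine ⟨⟨C, hC.2⟩, hC, hxC, F.obj.map (homOfLE hCV : (⟨C, hC.2⟩ : Opens X) ⟶ V).op t, ?_⟩
    refine (ConcreteCategory.congr_hom (g.hom.naturality _) t).trans ?_
    change G.obj.map _ (g.hom.app (op V) t) = _
    rw [ht, ← ConcreteCategory.comp_apply, ← G.obj.map_comp]
    rfl
  choose C hC hxC t ht using h
  obtain ⟨T, hT⟩ := isCompact_univ.elim_finite_subcover (fun x => (C x : Set X)) (fun x => (C x).2)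
    (fun x _ => Set.mem_iUnion.2 ⟨x, hxC x⟩)
  let c : Fin T.card → X := fun k => (T.equivFin.symm k).1
  have hcl : ∀ k : Fin T.card, IsOpen (disjointed (fun j => (C (c j) : Set X)) k) := fun k => by
    have : disjointed (fun j => (C (c j) : Set X)) k = (C (c k) : Set X) \ ⋃ j ∈ Finset.Iio k, (C (c j) : Set X) := by
      rw [disjointed_apply, Finset.sup_eq_iSup]
      rfl
    rw [this]
    exact (C (c k)).2.sdiff (Set.Finite.isClosed_biUnion (Finset.finite_toSet _) fun j _ => (hC (c j)).1)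
  let D : Fin T.card → Opens X := fun k => ⟨_, hcl k⟩
  have hD : ∀ k, D k ≤ C (c k) := fun k => (disjointed_le (fun j => (C (c j) : Set X)) k : _)
  have hcov : (⊤ : Opens X) ≤ iSup D := fun x _ => by
    obtain ⟨y, hy, hxy⟩ := Set.mem_iUnion₂.1 (hT (Set.mem_univ x))
    have : x ∈ ⋃ k, disjointed (fun j => (C (c j) : Set X)) k := by
      rw [iUnion_disjointed]
      exact Set.mem_iUnion.2 ⟨T.equivFin ⟨y, hy⟩, by simpa [c] using hxy⟩
    obtain ⟨k, hk⟩ := Set.mem_iUnion.1 this
    exact Opens.mem_iSup.2 ⟨k, hk⟩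
  obtain ⟨t₀, ht₀, -⟩ := TopCat.Sheaf.existsUnique_gluing' F D ⊤ (fun k => homOfLE le_top) hcov
    (fun k => F.obj.map (homOfLE (hD k)).op (t (c k))) (fun i j => by
      rcases eq_or_ne i j with rfl | hij
      · rfl
      · have hbot : D i ⊓ D j = ⊥ := SetLike.coe_injective
          (Set.disjoint_iff_inter_eq_empty.1 ((disjoint_disjointed (fun j => (C (c j) : Set X)) hij : _)))
        exact @Subsingleton.elim _ (subsingleton_of_le_bot F hbot) _ _)
  refine ⟨t₀, TopCat.Sheaf.eq_of_locally_eq' (F := G) D ⊤ (fun k => homOfLE le_top) hcov _ _ fun k => ?_⟩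
  refine (ConcreteCategory.congr_hom (g.hom.naturality _) t₀).symm.trans ?_
  refine (congrArg (g.hom.app (op (D k))) (ht₀ k)).trans ?_
  refine (ConcreteCategory.congr_hom (g.hom.naturality _) _).trans ?_
  change G.obj.map _ (g.hom.app _ (t (c k))) = _
  rw [ht, ← ConcreteCategory.comp_apply, ← G.obj.map_comp]
  rfl

theorem subsingleton_H_of_profinite [CompactSpace X] [T2Space X] [TotallyDisconnectedSpace X]
    (F : CohTop.Ab X) (n : ℕ) : Subsingleton (CohTop.H F (n + 1)) :=
  @Equiv.subsingleton _ _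
    (SheafCoh.HEquivHU (J := Opens.grothendieckTopology X) F (n + 1) (isTerminalTop (α := Opens X))).toEquiv
    (SheafCoh.subsingleton_HU_of_class (J := Opens.grothendieckTopology X) ⊤ (fun _ => True)
      (fun G _ => ⟨trivial, surjective_top_of_profinite (cokernel.π (Injective.ι G))⟩) F trivial n)

end GrothLib.Acyc25
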